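import Groth.Agent.SurfAmpleLib.Adj
import Groth.Agent.EtaleEulerLib.Main
import Groth.Agent.HilbPolyLib.BaseField
import Groth.Agent.NumTrivLib.Transfer
import Groth.Agent.VeryAmpleLib.Bc
import Groth.Agent.WeilExtLib.Smooth
import Groth.Agent.CurveVBLib.Integral
import Groth.Agent.S15539
import Groth.Agent.S15540
import Groth.Agent.NefH1Lib.Field

/-!
# Riemann–Roch on smooth proper surfaces over any field
-/

set_option autoImplicit false
set_option linter.style.haveILetI false
set_option backward.isDefEq.respectTransparency false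
universe u

open CategoryTheory CategoryTheory.Limits AlgebraicGeometry TopologicalSpace Opposite
open HilbPolyLib DevissLib IntMultLib IntFunLib HodgeIdxLib

noncomputable section

namespace SurfRRLib

/-- The pairing through Euler characteristics. -/
theorem pr_eq {k : Type u} [Field k] {X : Scheme.{u}} [X.Over (Spec (CommRingCat.of k))]
    (A B : X.Modules) :
    pr k A B = Curv2.euler k X (CohB1.tensorMod A B) - Curv2.euler k X A - Curv2.euler k X B
      + Curv2.euler k X (Coh.structureModule X) := by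
  have e1 : CohB1.tensorMod B (CohB1.tensorMod A (Coh.structureModule X)) ≅ CohB1.tensorMod A B :=
    swapIso _ _ ≪≫ congrLeft (swapIso _ _ ≪≫ unitLeft A) B
  have e2 : CohB1.tensorMod A (Coh.structureModule X) ≅ A := swapIso _ _ ≪≫ unitLeft A
  have e3 : CohB1.tensorMod B (Coh.structureModule X) ≅ B := swapIso _ _ ≪≫ unitLeft B
  simp only [pr, IntFunLib.N]
  rw [CurvLib.euler_congr (k := k) e1, CurvLib.euler_congr (k := k) e2, CurvLib.euler_congr (k := k) e3]
  ring

/-- Riemann–Roch as a property. -/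
def RR (k : Type u) [Field k] (X : Scheme.{u}) [X.Over (Spec (CommRingCat.of k))] (W L : X.Modules) : Prop :=
  2 * Curv2.euler k X L = pr k L L - pr k L W + 2 * Curv2.euler k X (Coh.structureModule X)

theorem RR.congr {k : Type u} [Field k] {X : Scheme.{u}} [X.Over (Spec (CommRingCat.of k))] {W W' L L' : X.Modules}
    (a : W ≅ W') (b : L ≅ L') (h : RR k X W L) : RR k X W' L' := by
  have e1 := CurvLib.euler_congr (k := k) (congrLeft b L ≪≫ congrRight L' b)
  have e2 := CurvLib.euler_congr (k := k) (congrLeft b W ≪≫ congrRight L' a)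
  simp only [RR, pr_eq] at h ⊢
  rw [← e1, ← e2, ← CurvLib.euler_congr (k := k) b, ← CurvLib.euler_congr (k := k) a]
  exact h

theorem dim_of_smoothRel {k : Type u} [Field k] (X : Scheme.{u}) [IsIntegral X] [X.Over (Spec (CommRingCat.of k))]
    {n : ℕ} [SmoothOfRelativeDimension n (X ↘ Spec (CommRingCat.of k))] :
    topologicalKrullDim X = ((n : ℕ) : WithBot ℕ∞) := by
  let f := X ↘ Spec (CommRingCat.of k)
  haveI : Smooth f := SmoothOfRelativeDimension.smooth n f
  obtain ⟨x⟩ : Nonempty X := inferInstance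
  have h := ((CurvOpenLib.smoothOfRelativeDimension_iff_forall n f).1 inferInstance).2 x
  have hopen : Topology.IsOpenEmbedding (f.fiberι (f x)) := by
    refine ⟨(f.fiberι (f x)).isEmbedding, ?_⟩
    rw [Scheme.Hom.range_fiberι, show f ⁻¹' {f x} = Set.univ from
      Set.eq_univ_of_forall fun y => Subsingleton.elim (α := PrimeSpectrum k) _ _]
    exact isOpen_univ
  rw [FlatMor.fibreDimAt, ← FibDimLib.localDim_eq_of_isOpenEmbedding hopen, FibDimLib.localDim_of_irreducible f] at h
  exact h

section Closed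

variable {K : Type u} [Field K] [IsAlgClosed K] {X : Scheme.{u}} [X.Over (Spec (CommRingCat.of K))]
  [IsProper (X ↘ Spec (CommRingCat.of K))] [SmoothOfRelativeDimension 2 (X ↘ Spec (CommRingCat.of K))]
  {W L : X.Modules}

theorem rr_integral [IsIntegral X] (hW : ExtPow.IsExtPow 2 (Omega.sheaf (X ↘ Spec (CommRingCat.of K))) W)
    (hL : PicF.IsInvertible L) : RR K X W L :=
  haveI : Smooth (X ↘ Spec (CommRingCat.of K)) := SmoothOfRelativeDimension.smooth 2 (X ↘ Spec (CommRingCat.of K))
  SurfAmpleLib.riemann_roch (dim_of_smoothRel (k := K) X) hW hL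

/-- Restricting to a clopen piece. -/
theorem restrict_data (U : X.Opens) (hU : IsClosed (U : Set X)) :
    IsClosedImmersion U.ι ∧
      letI : U.toScheme.Over (Spec (CommRingCat.of K)) := ⟨U.ι ≫ X ↘ Spec (CommRingCat.of K)⟩
      IsProper (U.toScheme ↘ Spec (CommRingCat.of K)) ∧
        SmoothOfRelativeDimension 2 (U.toScheme ↘ Spec (CommRingCat.of K)) := by
  have hc : IsClosedImmersion U.ι :=
    IsClosedImmersion.of_isPreimmersion U.ι (by rwa [Scheme.Opens.range_ι])
  refine ⟨hc, ?_, ?_⟩
  · show IsProper (U.ι ≫ X ↘ Spec (CommRingCat.of K))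
    infer_instance
  · show SmoothOfRelativeDimension 2 (U.ι ≫ X ↘ Spec (CommRingCat.of K))
    exact smoothOfRelativeDimension_comp U.ι (X ↘ Spec (CommRingCat.of K)) (n := 0) (m := 2)

theorem rr_split (U V : X.Opens) [IsClosedImmersion U.ι] [IsClosedImmersion V.ι]
    (hUV : Disjoint (U : Set X) V) (hcov : ∀ x : X, x ∈ U ∨ x ∈ V) (hWi : PicF.IsInvertible W)
    (hL : PicF.IsInvertible L)
    (h1 : letI : U.toScheme.Over (Spec (CommRingCat.of K)) := ⟨U.ι ≫ X ↘ Spec (CommRingCat.of K)⟩
      RR K U.toScheme ((Scheme.Modules.pullback U.ι).obj W) ((Scheme.Modules.pullback U.ι).obj L))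
    (h2 : letI : V.toScheme.Over (Spec (CommRingCat.of K)) := ⟨V.ι ≫ X ↘ Spec (CommRingCat.of K)⟩
      RR K V.toScheme ((Scheme.Modules.pullback V.ι).obj W) ((Scheme.Modules.pullback V.ι).obj L)) :
    RR K X W L := by
  letI : U.toScheme.Over (Spec (CommRingCat.of K)) := ⟨U.ι ≫ X ↘ Spec (CommRingCat.of K)⟩
  letI : V.toScheme.Over (Spec (CommRingCat.of K)) := ⟨V.ι ≫ X ↘ Spec (CommRingCat.of K)⟩
  have e : ∀ G : X.Modules, PicF.IsInvertible G → Curv2.euler K X G =
      Curv2.euler K U.toScheme ((Scheme.Modules.pullback U.ι).obj G) +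
        Curv2.euler K V.toScheme ((Scheme.Modules.pullback V.ι).obj G) := fun G hG =>
    EtaleEulerLib.euler_split U V hUV hcov (CurvLib.locFree_of_isInvertible hG)
  obtain ⟨t1⟩ := NumTrivLib.nonempty_pb_tensor U.ι L L
  obtain ⟨t2⟩ := NumTrivLib.nonempty_pb_tensor V.ι L L
  obtain ⟨t3⟩ := NumTrivLib.nonempty_pb_tensor U.ι L W
  obtain ⟨t4⟩ := NumTrivLib.nonempty_pb_tensor V.ι L W
  have hO := e _ CurvLib.isInvertible_structureModule
  rw [CurvLib.euler_congr (k := K) (KFlatLib.pullUnitIso U.ι), CurvLib.euler_congr (k := K) (KFlatLib.pullUnitIso V.ι)]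
    at hO
  have hLL := e _ (isInvertible_tensor hL hL)
  rw [← CurvLib.euler_congr (k := K) t1, ← CurvLib.euler_congr (k := K) t2] at hLL
  have hLW := e _ (isInvertible_tensor hL hWi)
  rw [← CurvLib.euler_congr (k := K) t3, ← CurvLib.euler_congr (k := K) t4] at hLW
  have hL' := e _ hL
  have hW' := e _ hWi
  simp only [RR, pr_eq, KFlatLib.pb] at h1 h2 hLL hLW ⊢
  omega

end Closed

/-- Riemann–Roch over an algebraically closed field. -/
theorem rr_closed {K : Type u} [Field K] [IsAlgClosed K] {X : Scheme.{u}} [X.Over (Spec (CommRingCat.of K))]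
    [IsProper (X ↘ Spec (CommRingCat.of K))] [SmoothOfRelativeDimension 2 (X ↘ Spec (CommRingCat.of K))]
    {W L : X.Modules} (hW : ExtPow.IsExtPow 2 (Omega.sheaf (X ↘ Spec (CommRingCat.of K))) W)
    (hL : PicF.IsInvertible L) : RR K X W L := by
  haveI := CurvLib.isNoetherian K (X := X)
  suffices key : ∀ (C : Closeds X) (Y : Scheme.{u}) (j : Y ⟶ X) [IsOpenImmersion j] [IsClosedImmersion j],
      Set.range j = C →
      letI : Y.Over (Spec (CommRingCat.of K)) := ⟨j ≫ X ↘ Spec (CommRingCat.of K)⟩
      RR K Y ((Scheme.Modules.pullback j).obj W) ((Scheme.Modules.pullback j).obj L) by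
    have hd : Disjoint ((⊤ : X.Opens) : Set X) ((⊥ : X.Opens) : Set X) := by simp
    haveI := (restrict_data (K := K) (⊤ : X.Opens) (by simp)).1
    haveI := (restrict_data (K := K) (⊥ : X.Opens) (by simp)).1
    exact rr_split ⊤ ⊥ hd (fun x => Or.inl trivial) (SurfNumLib.isInvertible_canonical (k := K) hW) hL
      (key ⊤ _ (⊤ : X.Opens).ι (by simp [Scheme.Opens.range_ι]))
      (key ⊥ _ (⊥ : X.Opens).ι (by simp [Scheme.Opens.range_ι]))
  intro C
  induction C using WellFoundedLT.induction with
  | ind C ih => ?_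
  intro Y j hj hc hCY
  letI : Y.Over (Spec (CommRingCat.of K)) := ⟨j ≫ X ↘ Spec (CommRingCat.of K)⟩
  have hP : IsProper (Y ↘ Spec (CommRingCat.of K)) := inferInstanceAs (IsProper (j ≫ X ↘ Spec (CommRingCat.of K)))
  have hS : SmoothOfRelativeDimension 2 (Y ↘ Spec (CommRingCat.of K)) :=
    smoothOfRelativeDimension_comp j (X ↘ Spec (CommRingCat.of K)) (n := 0) (m := 2)
  haveI := hc
  haveI := hP
  haveI := hS
  haveI : Smooth (Y ↘ Spec (CommRingCat.of K)) := SmoothOfRelativeDimension.smooth 2 (Y ↘ Spec (CommRingCat.of K))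
  have hW' : ExtPow.IsExtPow 2 (Omega.sheaf (Y ↘ Spec (CommRingCat.of K)))
      ((Scheme.Modules.pullback j).obj W) :=
    Groth.Agent.S15540.result X (Spec (CommRingCat.of K)) Y (Spec (CommRingCat.of K))
      (X ↘ Spec (CommRingCat.of K)) (Y ↘ Spec (CommRingCat.of K)) j (𝟙 _) (Category.comp_id _).symm 2 W hW
  have hL' : PicF.IsInvertible ((Scheme.Modules.pullback j).obj L) := AmpleDevLib.isInvertible_pb j hL
  haveI := CurvLib.isNoetherian K (X := Y)
  rcases isEmpty_or_nonempty Y with hemp | hne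
  · have e0 : ∀ G : Y.Modules, Curv2.euler K Y G = 0 := fun G => by
      refine HilbPolyLib.euler_zero (k := K) ?_
      exact KFlatLib.isZero_of_stalks fun y => (hemp.false y).elim
    simp only [RR, pr_eq, e0]
    rfl
  by_cases hcon : PreconnectedSpace Y
  · haveI : ConnectedSpace Y := ⟨hne⟩
    haveI : ∀ y : Y, IsDomain (Y.presheaf.stalk y) := fun y =>
      haveI := WeilExtLib.isRegular_stalk_smooth (Y ↘ Spec (CommRingCat.of K)) y
      CommAlgDim.isDomain_of_isRegularLocalRing _
    haveI : IsIntegral Y := CurveVBLib.isIntegral_of_connected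
    exact rr_integral hW' hL'
  rw [preconnectedSpace_iff_clopen] at hcon
  simp only [not_forall, not_or] at hcon
  obtain ⟨S, hS', hne', huniv⟩ := hcon
  let A : Y.Opens := ⟨S, hS'.isOpen⟩
  let B : Y.Opens := ⟨Sᶜ, hS'.compl.isOpen⟩
  haveI := (restrict_data (K := K) A hS'.isClosed).1
  haveI := (restrict_data (K := K) B hS'.compl.isClosed).1
  refine rr_split A B disjoint_compl_right (fun y => Classical.em _) (SurfNumLib.isInvertible_canonical (k := K) hW') hL'
    ?_ ?_
  · have hlt : (⟨_, (A.ι ≫ j).isClosedEmbedding.isClosed_range⟩ : Closeds X) < C := by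
      refine lt_of_le_of_ne (fun x hx => ?_) fun h => ?_
      · show x ∈ (C : Set X)
        rw [← hCY]
        obtain ⟨y, rfl⟩ := hx
        exact ⟨A.ι y, rfl⟩
      · refine huniv (Set.eq_univ_of_forall fun y => ?_)
        obtain ⟨z, hz⟩ : j y ∈ Set.range (A.ι ≫ j) := by
          rw [show Set.range (A.ι ≫ j) = (C : Set X) from congrArg SetLike.coe h, ← hCY]
          exact ⟨y, rfl⟩
        have h3 : A.ι z = y := j.isOpenEmbedding.injective hz
        exact h3 ▸ z.2
    exact RR.congr ((Scheme.Modules.pullbackComp A.ι j).app W).symm ((Scheme.Modules.pullbackComp A.ι j).app L).symm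
      (ih _ hlt A.toScheme (A.ι ≫ j) rfl)
  · have hlt : (⟨_, (B.ι ≫ j).isClosedEmbedding.isClosed_range⟩ : Closeds X) < C := by
      refine lt_of_le_of_ne (fun x hx => ?_) fun h => ?_
      · show x ∈ (C : Set X)
        rw [← hCY]
        obtain ⟨y, rfl⟩ := hx
        exact ⟨B.ι y, rfl⟩
      · refine hne' (Set.eq_empty_of_forall_notMem fun y hy => ?_)
        obtain ⟨z, hz⟩ : j y ∈ Set.range (B.ι ≫ j) := by
          rw [show Set.range (B.ι ≫ j) = (C : Set X) from congrArg SetLike.coe h, ← hCY]
          exact ⟨y, rfl⟩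
        have h3 : B.ι z = y := j.isOpenEmbedding.injective hz
        rw [← h3] at hy
        exact z.2 hy
    exact RR.congr ((Scheme.Modules.pullbackComp B.ι j).app W).symm ((Scheme.Modules.pullbackComp B.ι j).app L).symm
      (ih _ hlt B.toScheme (B.ι ≫ j) rfl)

variable {k : Type u} [Field k] {X : Scheme.{u}} [X.Over (Spec (CommRingCat.of k))]
  [IsProper (X ↘ Spec (CommRingCat.of k))] [Smooth (X ↘ Spec (CommRingCat.of k))]

theorem smoothRel_of_components (hdim : ∀ Z ∈ irreducibleComponents (X : Type u), topologicalKrullDim Z = 2) :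
    SmoothOfRelativeDimension 2 (X ↘ Spec (CommRingCat.of k)) := by
  haveI := CurvLib.isNoetherian k (X := X)
  haveI hdom : ∀ y : X, IsDomain (X.presheaf.stalk y) := fun y =>
    haveI := WeilExtLib.isRegular_stalk_smooth (X ↘ Spec (CommRingCat.of k)) y
    CommAlgDim.isDomain_of_isRegularLocalRing _
  haveI : IsReduced X := by
    haveI : ∀ y : X, _root_.IsReduced (X.presheaf.stalk y) := fun y => isReduced_of_noZeroDivisors
    exact isReduced_of_isReduced_stalk X
  have hop : ∀ Z ∈ irreducibleComponents (X : Type u), IsOpen Z := fun Z hZ => by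
    have hc : Z = (⋃ W ∈ irreducibleComponents (X : Type u) \ {Z}, W)ᶜ := by
      ext y
      simp only [Set.mem_compl_iff, Set.mem_iUnion, not_exists, Set.mem_sdiff, Set.mem_singleton_iff]
      refine ⟨fun hy W hW hyW => hW.2 (CurveVBLib.component_unique hW.1 hZ hyW hy), fun h => ?_⟩
      by_contra hy
      exact h (irreducibleComponent y) ⟨irreducibleComponent_mem_irreducibleComponents y,
        fun he => hy (he ▸ mem_irreducibleComponent)⟩ mem_irreducibleComponent
    rw [hc]
    exact (((NoetherianSpace.finite_irreducibleComponents).subset Set.sdiff_subset).isClosed_biUnion fun W hW =>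
      isClosed_of_mem_irreducibleComponents W hW.1).isOpen_compl
  let U : X → X.Opens := fun x =>
    ⟨irreducibleComponent x, hop _ (irreducibleComponent_mem_irreducibleComponents x)⟩
  refine IsZariskiLocalAtSource.of_iSup_eq_top (P := @SmoothOfRelativeDimension 2) U
    (eq_top_iff.2 fun x _ => TopologicalSpace.Opens.mem_iSup.2 ⟨x, mem_irreducibleComponent⟩) fun x => ?_
  letI : (U x).toScheme.Over (Spec (CommRingCat.of k)) := ⟨(U x).ι ≫ X ↘ Spec (CommRingCat.of k)⟩
  haveI : Smooth ((U x).toScheme ↘ Spec (CommRingCat.of k)) :=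
    inferInstanceAs (Smooth ((U x).ι ≫ X ↘ Spec (CommRingCat.of k)))
  haveI : Nonempty (U x).toScheme := ⟨⟨x, mem_irreducibleComponent⟩⟩
  haveI : IrreducibleSpace (U x).toScheme :=
    Subtype.irreducibleSpace (isIrreducible_irreducibleComponent (x := x))
  haveI : IsIntegral (U x).toScheme := isIntegral_of_irreducibleSpace_of_isReduced _
  exact SurfNumLib.smoothRel_of_dim (k := k) (X := (U x).toScheme)
    (hdim _ (irreducibleComponent_mem_irreducibleComponents x))

/-- **Riemann–Roch** on a smooth proper surface. -/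
theorem main (hdim : ∀ Z ∈ irreducibleComponents (X : Type u), topologicalKrullDim Z = 2)
    (W : X.Modules) (hW : ExtPow.IsExtPow 2 (Omega.sheaf (X ↘ Spec (CommRingCat.of k))) W)
    (L : X.Modules) (hL : PicF.IsInvertible L) : RR k X W L := by
  haveI := smoothRel_of_components (k := k) hdim
  have hWi := SurfNumLib.isInvertible_canonical (k := k) hW
  let K := AlgebraicClosure k
  let g := Curv2.bcFst k X K
  letI := HilbPolyLib.bcOver (k := k) (X := X) K
  haveI := VeryAmpleLib.isProper_bc k X K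
  haveI := smoothOfRelativeDimension_isStableUnderBaseChange (n := 2)
  haveI : SmoothOfRelativeDimension 2 (Curv2.bc k X K ↘ Spec (CommRingCat.of K)) :=
    MorphismProperty.of_isPullback (P := @SmoothOfRelativeDimension 2) (VeryAmpleLib.isPullback_bc k X K) inferInstance
  have hW' := Groth.Agent.S15539.result X _ _ _ (X ↘ Spec (CommRingCat.of k))
    (Curv2.bc k X K ↘ Spec (CommRingCat.of K)) g _ (VeryAmpleLib.isPullback_bc k X K) 2 W hW
  have h := rr_closed (K := K) hW' (AmpleDevLib.isInvertible_pb g hL)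
  have hb : ∀ G : X.Modules, PicF.IsInvertible G →
      Curv2.euler K (Curv2.bc k X K) ((Scheme.Modules.pullback g).obj G) = Curv2.euler k X G := fun G hG =>
    HilbPolyLib.euler_bc K (TwistLib.isQCoh_of_isInvertible hG)
  obtain ⟨t1⟩ := NumTrivLib.nonempty_pb_tensor g L L
  obtain ⟨t2⟩ := NumTrivLib.nonempty_pb_tensor g L W
  have hO := hb _ CurvLib.isInvertible_structureModule
  rw [CurvLib.euler_congr (k := K) (KFlatLib.pullUnitIso g)] at hO
  have hLL := hb _ (isInvertible_tensor hL hL)
  rw [← CurvLib.euler_congr (k := K) t1] at hLL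
  have hLW := hb _ (isInvertible_tensor hL hWi)
  rw [← CurvLib.euler_congr (k := K) t2] at hLW
  have hL' := hb _ hL
  have hW2 := hb _ hWi
  simp only [RR, pr_eq, KFlatLib.pb, g] at h hLL hLW hO hL' hW2 ⊢
  omega

theorem topologicalKrullDim_le (hdim : ∀ Z ∈ irreducibleComponents (X : Type u), topologicalKrullDim Z = 2) :
    topologicalKrullDim X ≤ ((2 : ℕ) : WithBot ℕ∞) := by
  rw [MiscFlat6.dim_eq_iSup_components]
  exact iSup₂_le fun Z hZ => (hdim Z hZ).le

theorem rr_intNum (hdim : ∀ Z ∈ irreducibleComponents (X : Type u), topologicalKrullDim Z = 2)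
    (W : X.Modules) (hW : ExtPow.IsExtPow 2 (Omega.sheaf (X ↘ Spec (CommRingCat.of k))) W)
    (L : X.Modules) (hL : PicF.IsInvertible L) :
    2 * Curv2.euler k X L =
      FGA.intNum k X 2 ![L, L] (Coh.structureModule X) - FGA.intNum k X 2 ![L, W] (Coh.structureModule X) +
        2 * Curv2.euler k X (Coh.structureModule X) := by
  have hle := topologicalKrullDim_le (X := X) hdim
  rw [SurfNumLib.intNum_eq_pr hle, SurfNumLib.intNum_eq_pr hle]
  exact main hdim W hW L hL

/-- **Adjunction.** -/
theorem adjunction [ConnectedSpace X] (hdim : topologicalKrullDim X = 2)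
    (W : X.Modules) (hW : ExtPow.IsExtPow 2 (Omega.sheaf (X ↘ Spec (CommRingCat.of k))) W)
    {C : Scheme.{u}} (i : C ⟶ X) [IsClosedImmersion i] (hI : PicF.IsInvertible (ClSub.idealMod i.ker)) :
    letI : C.Over (Spec (CommRingCat.of k)) := ⟨i ≫ (X ↘ (Spec (CommRingCat.of k)))⟩
    FGA.intNum k X 2 ![ClSub.idealMod i.ker, ClSub.idealMod i.ker] (Coh.structureModule X) -
        FGA.intNum k X 2 ![ClSub.idealMod i.ker, W] (Coh.structureModule X) =
      -2 * Curv2.euler k C (Coh.structureModule C) := by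
  letI : C.Over (Spec (CommRingCat.of k)) := ⟨i ≫ (X ↘ (Spec (CommRingCat.of k)))⟩
  haveI := CurvLib.isNoetherian k (X := X)
  haveI : ∀ y : X, IsDomain (X.presheaf.stalk y) := fun y =>
    haveI := WeilExtLib.isRegular_stalk_smooth (X ↘ Spec (CommRingCat.of k)) y
    CommAlgDim.isDomain_of_isRegularLocalRing _
  haveI : IsIntegral X := CurveVBLib.isIntegral_of_connected
  have hc : ∀ Z ∈ irreducibleComponents (X : Type u), topologicalKrullDim Z = 2 := fun Z hZ => by
    rw [irreducibleComponents_eq_singleton, Set.mem_singleton_iff] at hZ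
    subst hZ
    exact ((Homeomorph.Set.univ X).isHomeomorph.topologicalKrullDim_eq).trans hdim
  have h := rr_intNum hc W hW _ hI
  have hadd := CurvLib.euler_add_of_isCoh (k := k) (S := CurvLib.idealSeq i.ker) (CurvLib.idealSeq_shortExact _)
    (CurvLib.isCoh_of_isInvertible hI) (DevissLib.isCoh_structureModule X) (CurvLib.isCoh_quotMod _)
  change Curv2.euler k X (Coh.structureModule X) =
    Curv2.euler k X (ClSub.idealMod i.ker) + Curv2.euler k X (ClSub.quotMod i.ker) at hadd
  have h2 := (NefH1Lib.euler_pullback (k := k) i rfl CurvLib.isInvertible_structureModule).2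
  omega

end SurfRRLib
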